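import Mathlib

/-! `Tor` and projective dimension of the residue module at a node `x * y = 0`. -/

universe u

open CategoryTheory Limits MonoidalCategory TensorProduct

namespace Groth.Agent.NodeTor

variable {A : Type u} [CommRing A]

/-- A projective resolution from a function-exact sequence. -/
noncomputable def resolution (M : ModuleCat.{u} A) (X : ℕ → ModuleCat.{u} A)
    (hX : ∀ n, Projective (X n)) (d : ∀ n, X (n + 1) ⟶ X n) (sq : ∀ n, d (n + 1) ≫ d n = 0)
    (ε : X 0 ⟶ M) (hε : d 0 ≫ ε = 0) (hsurj : Function.Surjective ε.hom)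
    (h0 : Function.Exact (d 0).hom ε.hom)
    (hn : ∀ n, Function.Exact (d (n + 1)).hom (d n).hom) : ProjectiveResolution M where
  complex := ChainComplex.of X d sq
  projective := hX
  π := (ChainComplex.toSingle₀Equiv _ _).symm
    ⟨ε, (congrArg (· ≫ ε) (ChainComplex.of_d X d 0)).trans hε⟩
  quasiIso := ⟨fun n => by
    cases n with
    | zero =>
      rw [ChainComplex.quasiIsoAt₀_iff, ShortComplex.quasiIso_iff_of_zeros']
      · refine (ShortComplex.exact_and_epi_g_iff_of_iso
          (S₂ := ShortComplex.mk (d 0) ε hε) ?_).2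
          ⟨(ShortComplex.ShortExact.moduleCat_exact_iff_function_exact _).2 h0,
            (ModuleCat.epi_iff_surjective ε).2 hsurj⟩
        refine ShortComplex.isoMk (Iso.refl _) (Iso.refl _) (Iso.refl _) ?_ ?_
        · exact (Category.id_comp _).trans ((ChainComplex.of_d X d 0).symm.trans (Category.comp_id _).symm)
        · exact (Category.id_comp _).trans (Category.comp_id _).symm
      all_goals rfl
    | succ n =>
      rw [quasiIsoAt_iff_exactAt']
      · rw [HomologicalComplex.exactAt_iff' _ (n + 2) (n + 1) n (by simp) (by simp),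
          ShortComplex.ShortExact.moduleCat_exact_iff_function_exact]
        have e1 : ChainComplex.of.d X d (n + 2) (n + 1) = d (n + 1) := ChainComplex.of_d X d (n + 1)
        have e0 : ChainComplex.of.d X d (n + 1) n = d n := ChainComplex.of_d X d n
        show Function.Exact (ChainComplex.of.d X d (n + 2) (n + 1)).hom (ChainComplex.of.d X d (n + 1) n).hom
        rw [e1, e0]
        exact hn n
      · exact ChainComplex.exactAt_succ_single_obj _ _⟩

theorem resolution_d (M : ModuleCat.{u} A) (X : ℕ → ModuleCat.{u} A)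
    (hX : ∀ n, Projective (X n)) (d : ∀ n, X (n + 1) ⟶ X n) (sq : ∀ n, d (n + 1) ≫ d n = 0)
    (ε : X 0 ⟶ M) (hε : d 0 ≫ ε = 0) (hsurj : Function.Surjective ε.hom)
    (h0 : Function.Exact (d 0).hom ε.hom)
    (hn : ∀ n, Function.Exact (d (n + 1)).hom (d n).hom) (j : ℕ) :
    (resolution M X hX d sq ε hε hsurj h0 hn).complex.d (j + 1) j = d j :=
  ChainComplex.of_d X d j

/-- If a resolution becomes a complex with zero differentials after tensoring with `N`, it computes `Tor`. -/
theorem nonempty_tor_iso {M : ModuleCat.{u} A} (P : ProjectiveResolution M) (N : ModuleCat.{u} A)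
    (h : ∀ i j, ((P.complex.d i j).hom).lTensor N = 0) (n : ℕ) :
    Nonempty (((Tor (ModuleCat.{u} A) n).obj N).obj M ≅ ((tensoringLeft (ModuleCat.{u} A)).obj N).obj (P.complex.X n)) := by
  let G : ModuleCat.{u} A ⥤ ModuleCat.{u} A := (tensoringLeft (ModuleCat.{u} A)).obj N
  let C := (G.mapHomologicalComplex (ComplexShape.down ℕ)).obj P.complex
  have hd : ∀ i j, C.d i j = 0 := fun i j => ModuleCat.hom_ext (h i j)
  exact ⟨(P.isoLeftDerivedObj G n).trans
    ((ShortComplex.HomologyData.ofZeros (C.sc n) (hd _ _) (hd _ _)).left.homologyIso)⟩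

variable (x y : A)

/-- The two-periodic differentials. -/
noncomputable def diag (a b : A) : (A × A) →ₗ[A] A × A :=
  (LinearMap.mulRight A a).prodMap (LinearMap.mulRight A b)

/-- The augmenting differential. -/
noncomputable def row : (A × A) →ₗ[A] A :=
  (LinearMap.mulRight A x).coprod (LinearMap.mulRight A y)

theorem diag_apply (a b : A) (p : A × A) : diag a b p = (p.1 * a, p.2 * b) := rfl

theorem row_apply (p : A × A) : row x y p = p.1 * x + p.2 * y := rfl

/-- The hypothesis of a node. -/
structure IsNode : Prop where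
  mul_eq_zero : x * y = 0
  rel : ∀ a b : A, a * x + b * y = 0 → a ∈ Ideal.span {y} ∧ b ∈ Ideal.span {x}

variable {x y} (h : IsNode x y)
include h

theorem ann_left {a : A} (ha : a * x = 0) : a ∈ Ideal.span {y} :=
  (h.rel a 0 (by rw [ha]; ring)).1

theorem ann_right {a : A} (ha : a * y = 0) : a ∈ Ideal.span {x} :=
  (h.rel 0 a (by rw [ha]; ring)).2

theorem exact_row : Function.Exact (diag y x) (row x y) := by
  intro p
  constructor
  · intro hp
    obtain ⟨ha, hb⟩ := h.rel _ _ hp
    obtain ⟨a, ha⟩ := Ideal.mem_span_singleton'.1 ha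
    obtain ⟨b, hb⟩ := Ideal.mem_span_singleton'.1 hb
    exact ⟨(a, b), Prod.ext ha hb⟩
  · rintro ⟨q, rfl⟩
    rw [row_apply, diag_apply]
    linear_combination (q.1 + q.2) * h.mul_eq_zero

theorem exact_diag : Function.Exact (diag x y) (diag y x) := by
  intro p
  constructor
  · intro hp
    obtain ⟨a, ha⟩ := Ideal.mem_span_singleton'.1 (ann_right h (congrArg Prod.fst hp))
    obtain ⟨b, hb⟩ := Ideal.mem_span_singleton'.1 (ann_left h (congrArg Prod.snd hp))
    exact ⟨(a, b), Prod.ext ha hb⟩
  · rintro ⟨q, rfl⟩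
    rw [diag_apply, diag_apply]
    exact Prod.ext (show q.1 * x * y = 0 by linear_combination q.1 * h.mul_eq_zero)
      (show q.2 * y * x = 0 by linear_combination q.2 * h.mul_eq_zero)

theorem symm : IsNode y x :=
  ⟨by rw [mul_comm, h.mul_eq_zero], fun a b e => (h.rel b a (by rw [add_comm, e])).symm⟩

theorem length_tor [hm : (Ideal.span {x, y}).IsMaximal] (i : ℕ) (hi : 1 ≤ i) :
    Module.length A ((((Tor (ModuleCat.{u} A) i).obj (ModuleCat.of A (A ⧸ Ideal.span {x, y}))).obj
      (ModuleCat.of A (A ⧸ Ideal.span {x, y}))) : Type u) = 2 := by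
  let κ := A ⧸ Ideal.span {x, y}
  let X : ℕ → ModuleCat.{u} A := fun n =>
    match n with
    | 0 => ModuleCat.of A A
    | _ + 1 => ModuleCat.of A (A × A)
  let D : ℕ → (A × A) →ₗ[A] A × A := fun m => if Even m then diag y x else diag x y
  let d : ∀ n, X (n + 1) ⟶ X n := fun n =>
    match n with
    | 0 => ModuleCat.ofHom (row x y)
    | m + 1 => ModuleCat.ofHom (D m)
  have hexD : ∀ m, Function.Exact (D (m + 1)) (D m) := by
    intro m
    by_cases hm : Even m
    · simp only [D, if_pos hm, if_neg (Nat.not_even_iff_odd.2 hm.add_one)]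
      exact exact_diag h
    · simp only [D, if_neg hm, if_pos (Nat.not_even_iff_odd.1 hm).add_one]
      exact exact_diag (symm h)
  have hexn : ∀ n, Function.Exact (d (n + 1)).hom (d n).hom := fun n =>
    match n with
    | 0 => by
      show Function.Exact (D 0) (row x y)
      simp only [D, if_pos (show Even 0 from Nat.even_iff.2 rfl)]
      exact exact_row h
    | m + 1 => hexD m
  have sq : ∀ n, d (n + 1) ≫ d n = 0 := fun n =>
    ModuleCat.hom_ext (hexn n).linearMap_comp_eq_zero
  have hX : ∀ n, Projective (X n) := fun n =>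
    match n with
    | 0 => (IsProjective.iff_projective (R := A) A).1 inferInstance
    | _ + 1 => (IsProjective.iff_projective (R := A) (A × A)).1 inferInstance
  have h0 : Function.Exact (row x y) (Ideal.span {x, y}).mkQ := by
    intro a
    rw [Submodule.mkQ_apply, Submodule.Quotient.mk_eq_zero, Ideal.mem_span_pair]
    exact ⟨fun ⟨c, e, he⟩ => ⟨(c, e), he⟩, fun ⟨p, hp⟩ => ⟨p.1, p.2, hp⟩⟩
  let P := resolution (ModuleCat.of A κ) X hX d sq (ModuleCat.ofHom (Ideal.span {x, y}).mkQ)
    (ModuleCat.hom_ext h0.linearMap_comp_eq_zero) (Submodule.mkQ_surjective _) h0 hexn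
  have hx : ∀ c : κ, x • c = 0 := fun c => by
    obtain ⟨c, rfl⟩ := Submodule.mkQ_surjective _ c
    rw [← map_smul, Submodule.mkQ_apply, Submodule.Quotient.mk_eq_zero]
    exact Ideal.mul_mem_right _ _ (Ideal.subset_span (Or.inl rfl))
  have hy : ∀ c : κ, y • c = 0 := fun c => by
    obtain ⟨c, rfl⟩ := Submodule.mkQ_surjective _ c
    rw [← map_smul, Submodule.mkQ_apply, Submodule.Quotient.mk_eq_zero]
    exact Ideal.mul_mem_right _ _ (Ideal.subset_span (Or.inr rfl))
  have hrow : LinearMap.lTensor κ (row x y) = 0 := by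
    refine TensorProduct.ext' fun c p => ?_
    rw [LinearMap.lTensor_tmul, LinearMap.zero_apply, row_apply, TensorProduct.tmul_add,
      mul_comm p.1 x, mul_comm p.2 y, ← smul_eq_mul, ← smul_eq_mul, ← TensorProduct.smul_tmul,
      ← TensorProduct.smul_tmul, hx, hy, TensorProduct.zero_tmul, TensorProduct.zero_tmul, add_zero]
  have hdiag : ∀ a b : A, (∀ c : κ, a • c = 0) → (∀ c : κ, b • c = 0) →
      LinearMap.lTensor κ (diag a b) = 0 := by
    intro a b ha hb
    refine TensorProduct.ext' fun c p => ?_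
    have e : diag a b p = a • ((p.1, 0) : A × A) + b • ((0, p.2) : A × A) := by
      rw [diag_apply]; ext <;> simp [mul_comm]
    rw [LinearMap.lTensor_tmul, LinearMap.zero_apply, e, TensorProduct.tmul_add,
      ← TensorProduct.smul_tmul, ← TensorProduct.smul_tmul, ha, hb, TensorProduct.zero_tmul,
      TensorProduct.zero_tmul, add_zero]
  have hd : ∀ p q, LinearMap.lTensor κ (P.complex.d p q).hom = 0 := by
    intro p q
    by_cases hpq : p = q + 1
    · subst hpq
      rw [resolution_d]
      match q with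
      | 0 => exact hrow
      | m + 1 =>
        show LinearMap.lTensor κ (D m) = 0
        by_cases hm : Even m
        · simp only [D, if_pos hm]; exact hdiag y x hy hx
        · simp only [D, if_neg hm]; exact hdiag x y hx hy
    · rw [P.complex.shape p q (fun hh => hpq hh.symm)]
      exact LinearMap.lTensor_zero _
  obtain ⟨e⟩ := nonempty_tor_iso P (ModuleCat.of A κ) hd i
  obtain ⟨j, rfl⟩ := Nat.exists_eq_succ_of_ne_zero (by omega : i ≠ 0)
  have hκ : IsSimpleModule A κ := isSimpleModule_iff_quot_maximal.2 ⟨_, hm, ⟨LinearEquiv.refl _ _⟩⟩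
  rw [e.toLinearEquiv.length_eq]
  show Module.length A (κ ⊗[A] (A × A)) = 2
  rw [((TensorProduct.prodRight A A κ A A).trans
    (LinearEquiv.prodCongr (TensorProduct.rid A κ) (TensorProduct.rid A κ))).length_eq,
    Module.length_prod, Module.length_eq_one A κ, one_add_one_eq_two]

theorem shortExact :
    ∃ S : ShortComplex (ModuleCat.{u} A), S.ShortExact ∧ S.X₁ = ModuleCat.of A (A ⧸ Ideal.span {y}) ∧
      S.X₂ = ModuleCat.of A A ∧ S.X₃ = ModuleCat.of A (A ⧸ Ideal.span {x}) := by
  have hle : Ideal.span {y} ≤ LinearMap.ker (LinearMap.mulRight A x) := fun a ha => by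
    obtain ⟨c, rfl⟩ := Ideal.mem_span_singleton'.1 ha
    show c * y * x = 0
    linear_combination c * h.mul_eq_zero
  let f : (A ⧸ Ideal.span {y}) →ₗ[A] A := Submodule.liftQ _ (LinearMap.mulRight A x) hle
  have hf : Function.Injective f := by
    rw [← LinearMap.ker_eq_bot, Submodule.ker_liftQ_eq_bot]
    exact fun a ha => ann_left h ha
  have hex : Function.Exact f (Ideal.span {x}).mkQ := by
    intro a
    rw [Submodule.mkQ_apply, Submodule.Quotient.mk_eq_zero, Ideal.mem_span_singleton']
    constructor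
    · rintro ⟨c, hc⟩
      exact ⟨Submodule.Quotient.mk c, hc⟩
    · rintro ⟨c, hc⟩
      obtain ⟨c, rfl⟩ := Submodule.mkQ_surjective _ c
      exact ⟨c, hc⟩
  refine ⟨ShortComplex.mk (ModuleCat.ofHom f) (ModuleCat.ofHom (Ideal.span {x}).mkQ)
    (ModuleCat.hom_ext hex.linearMap_comp_eq_zero), ?_, rfl, rfl, rfl⟩
  exact { exact := (ShortComplex.ShortExact.moduleCat_exact_iff_function_exact _).2 hex
          mono_f := (ModuleCat.mono_iff_injective _).2 hf
          epi_g := (ModuleCat.epi_iff_surjective _).2 (Submodule.mkQ_surjective _) }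

theorem not_projective (hxy : x ∉ Ideal.span {y}) (hx : (1 : A) ∉ Ideal.span {x, y}) :
    ¬ Module.Projective A (A ⧸ Ideal.span {x}) := by
  intro hp
  obtain ⟨s, hs⟩ := Module.projective_lifting_property (Ideal.span {x}).mkQ LinearMap.id
    (Submodule.mkQ_surjective _)
  obtain ⟨e, he⟩ : ∃ e, s (Submodule.Quotient.mk 1) = e := ⟨_, rfl⟩
  have h1 : e * x = 0 := by
    have hz : (x • (Submodule.Quotient.mk 1 : A ⧸ Ideal.span {x})) = 0 := by
      rw [← Submodule.Quotient.mk_smul, Submodule.Quotient.mk_eq_zero, smul_eq_mul, mul_one]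
      exact Ideal.mem_span_singleton_self x
    have := congrArg s hz
    rw [map_smul, he, map_zero, smul_eq_mul] at this
    rw [mul_comm, this]
  have h2 : e - 1 ∈ Ideal.span {x} := by
    refine (Submodule.Quotient.eq _).1 ?_
    rw [← he]
    exact LinearMap.congr_fun hs _
  have hle : Ideal.span {y} ≤ Ideal.span {x, y} := Ideal.span_mono (by simp)
  have hle' : Ideal.span {x} ≤ Ideal.span {x, y} := Ideal.span_mono (by simp)
  refine hx ?_
  rw [show (1 : A) = e - (e - 1) by ring]
  exact sub_mem (hle (ann_left h h1)) (hle' h2)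

theorem shortExact_residue :
    ∃ S : ShortComplex (ModuleCat.{u} A), S.ShortExact ∧
      S.X₁ = ModuleCat.of A ((A ⧸ Ideal.span {y}) × (A ⧸ Ideal.span {x})) ∧
      S.X₂ = ModuleCat.of A A ∧ S.X₃ = ModuleCat.of A (A ⧸ Ideal.span {x, y}) := by
  have hle : ∀ {a b : A}, a * b = 0 → Ideal.span {b} ≤ LinearMap.ker (LinearMap.mulRight A a) := by
    intro a b hab c hc
    obtain ⟨c, rfl⟩ := Ideal.mem_span_singleton'.1 hc
    show c * b * a = 0
    linear_combination c * hab
  let f : ((A ⧸ Ideal.span {y}) × (A ⧸ Ideal.span {x})) →ₗ[A] A :=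
    (Submodule.liftQ (Ideal.span {y}) (LinearMap.mulRight A x) (hle h.mul_eq_zero)).coprod
      (Submodule.liftQ (Ideal.span {x}) (LinearMap.mulRight A y) (hle (symm h).mul_eq_zero))
  have hf : Function.Injective f := by
    rw [injective_iff_map_eq_zero]
    rintro ⟨a, b⟩ hab
    obtain ⟨a, rfl⟩ := Submodule.mkQ_surjective _ a
    obtain ⟨b, rfl⟩ := Submodule.mkQ_surjective _ b
    obtain ⟨ha, hb⟩ := h.rel a b hab
    exact Prod.ext ((Submodule.Quotient.mk_eq_zero _).2 ha) ((Submodule.Quotient.mk_eq_zero _).2 hb)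
  have hex : Function.Exact f (Ideal.span {x, y}).mkQ := by
    intro c
    rw [Submodule.mkQ_apply, Submodule.Quotient.mk_eq_zero, Ideal.mem_span_pair]
    constructor
    · rintro ⟨a, b, e⟩
      exact ⟨(Submodule.Quotient.mk a, Submodule.Quotient.mk b), e⟩
    · rintro ⟨⟨a, b⟩, e⟩
      obtain ⟨a, rfl⟩ := Submodule.mkQ_surjective _ a
      obtain ⟨b, rfl⟩ := Submodule.mkQ_surjective _ b
      exact ⟨a, b, e⟩
  refine ⟨ShortComplex.mk (ModuleCat.ofHom f) (ModuleCat.ofHom (Ideal.span {x, y}).mkQ)
    (ModuleCat.hom_ext hex.linearMap_comp_eq_zero), ?_, rfl, rfl, rfl⟩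
  exact { exact := (ShortComplex.ShortExact.moduleCat_exact_iff_function_exact _).2 hex
          mono_f := (ModuleCat.mono_iff_injective _).2 hf
          epi_g := (ModuleCat.epi_iff_surjective _).2 (Submodule.mkQ_surjective _) }

theorem not_hasProjectiveDimensionLT (hxy : x ∉ Ideal.span {y}) (hyx : y ∉ Ideal.span {x})
    (h1 : (1 : A) ∉ Ideal.span {x, y}) (n : ℕ) :
    ¬ HasProjectiveDimensionLT (ModuleCat.of A (A ⧸ Ideal.span {x, y})) n := by
  have hA : ∀ m, HasProjectiveDimensionLT (ModuleCat.of A A) (m + 1) := fun m => by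
    have : Projective (ModuleCat.of A A) := (IsProjective.iff_projective (R := A) A).1 inferInstance
    exact hasProjectiveDimensionLT_of_ge _ 1 _ (by omega)
  have key : ∀ m, ¬ HasProjectiveDimensionLT (ModuleCat.of A (A ⧸ Ideal.span {x})) (m + 1) ∧
      ¬ HasProjectiveDimensionLT (ModuleCat.of A (A ⧸ Ideal.span {y})) (m + 1) := by
    intro m
    induction m with
    | zero =>
      constructor <;> intro hp
      · exact not_projective h hxy h1 ((IsProjective.iff_projective _).2
          (projective_iff_hasProjectiveDimensionLT_one.2 hp))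
      · exact not_projective (symm h) hyx (by rwa [Set.pair_comm]) ((IsProjective.iff_projective _).2
          (projective_iff_hasProjectiveDimensionLT_one.2 hp))
    | succ m ih =>
      constructor <;> intro hp
      · obtain ⟨S, hS, e1, e2, e3⟩ := shortExact h
        exact ih.2 (e1 ▸ hS.hasProjectiveDimensionLT_X₁ (m + 1) (e2 ▸ hA m) (e3 ▸ hp))
      · obtain ⟨S, hS, e1, e2, e3⟩ := shortExact (symm h)
        exact ih.1 (e1 ▸ hS.hasProjectiveDimensionLT_X₁ (m + 1) (e2 ▸ hA m) (e3 ▸ hp))
  intro hp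
  have hp' : HasProjectiveDimensionLT (ModuleCat.of A (A ⧸ Ideal.span {x, y})) (n + 2) :=
    hasProjectiveDimensionLT_of_ge _ n _ (by omega)
  obtain ⟨S, hS, e1, e2, e3⟩ := shortExact_residue h
  have hprod : HasProjectiveDimensionLT
      (ModuleCat.of A ((A ⧸ Ideal.span {y}) × (A ⧸ Ideal.span {x}))) (n + 1) :=
    e1 ▸ hS.hasProjectiveDimensionLT_X₁ (n + 1) (e2 ▸ hA n) (e3 ▸ hp')
  refine (key n).2 ?_
  exact Retract.hasProjectiveDimensionLT
    (Y := ModuleCat.of A ((A ⧸ Ideal.span {y}) × (A ⧸ Ideal.span {x})))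
    { i := ModuleCat.ofHom (LinearMap.inl A _ _)
      r := ModuleCat.ofHom (LinearMap.fst A _ _)
      retract := rfl } (n + 1)

end Groth.Agent.NodeTor
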